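import Mathlib

/-!
For a homotopy equivalence `f : M ⟶ N` of cochain complexes,
`M ⊞ cone f ≅ N ⊞ cone (𝟙 M)`.
-/

set_option autoImplicit false

namespace Groth.Agent.TrivSum

open CategoryTheory Limits CochainComplex HomComplex

universe v w

variable {C : Type w} [Category.{v} C] [Preadditive C] [HasBinaryBiproducts C]
  {M N : CochainComplex C ℤ}

theorem nonempty_iso (e : HomotopyEquiv M N) :
    Nonempty (M ⊞ mappingCone e.hom ≅ N ⊞ mappingCone (𝟙 M)) := by
  classical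
  set f := e.hom with hf
  set g := e.inv with hg
  let h : Homotopy (𝟙 M ≫ (𝟙 M - f ≫ g)) 0 :=
    (Homotopy.ofEq (Category.id_comp _)).trans (Homotopy.equivSubZero e.homotopyHomInvId.symm)
  let β : mappingCone (𝟙 M) ⟶ M :=
    mappingCone.desc (𝟙 M) (Cochain.ofHomotopy h) (𝟙 M - f ≫ g)
      (by rw [δ_ofHomotopy, Cochain.ofHom_zero, sub_zero])
  let τ : mappingCone (𝟙 M) ⟶ mappingCone f :=
    mappingCone.desc (𝟙 M) (mappingCone.inl f) (f ≫ mappingCone.inr f)
      (by rw [mappingCone.δ_inl, Category.id_comp])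
  let s : N ⊞ mappingCone (𝟙 M) ⟶ M := biprod.desc g β
  let q : N ⊞ mappingCone (𝟙 M) ⟶ mappingCone f := biprod.desc (mappingCone.inr f) (-τ)
  let F : M ⟶ N ⊞ mappingCone (𝟙 M) := biprod.lift f (mappingCone.inr (𝟙 M))
  have hFs : F ≫ s = 𝟙 M := by
    simp [F, s, β, biprod.lift_desc]
  have hFq : F ≫ q = 0 := by
    simp [F, q, τ, biprod.lift_desc]
  have key : ∀ i : ℤ, IsIso ((biprod.lift s q).f i) := by
    intro i
    let t : (mappingCone f).X i ⟶ (N ⊞ mappingCone (𝟙 M)).X i :=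
      (mappingCone.fst f).1.v i (i + 1) rfl ≫ (-(mappingCone.inl (𝟙 M)).v (i + 1) i (by omega)) ≫
          (biprod.inr : _ ⟶ N ⊞ mappingCone (𝟙 M)).f i +
        (mappingCone.snd f).v i i (add_zero i) ≫ (biprod.inl : _ ⟶ N ⊞ mappingCone (𝟙 M)).f i
    have htq : t ≫ q.f i = 𝟙 _ := by
      simp [t, q, τ, mappingCone.id_X f i (i + 1) rfl, ← HomologicalComplex.comp_f_assoc,
        ← HomologicalComplex.comp_f]
    let r : (N ⊞ mappingCone (𝟙 M)).X i ⟶ M.X i :=
      (biprod.snd : N ⊞ mappingCone (𝟙 M) ⟶ _).f i ≫ (mappingCone.snd (𝟙 M)).v i i (add_zero i)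
    have hid : (biprod.fst : N ⊞ mappingCone (𝟙 M) ⟶ _).f i ≫
        (biprod.inl : _ ⟶ N ⊞ mappingCone (𝟙 M)).f i +
        (biprod.snd : N ⊞ mappingCone (𝟙 M) ⟶ _).f i ≫
        (biprod.inr : _ ⟶ N ⊞ mappingCone (𝟙 M)).f i = 𝟙 _ := by
      rw [← HomologicalComplex.comp_f, ← HomologicalComplex.comp_f, ← HomologicalComplex.add_f_apply,
        biprod.total, HomologicalComplex.id_f]
    have hqt : q.f i ≫ t + r ≫ F.f i = 𝟙 _ := by
      have h1 : ∀ {A : C} (a b : (N ⊞ mappingCone (𝟙 M)).X i ⟶ A),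
          (biprod.inl : _ ⟶ N ⊞ mappingCone (𝟙 M)).f i ≫ a = (biprod.inl : _ ⟶ N ⊞ mappingCone (𝟙 M)).f i ≫ b →
          (biprod.inr : _ ⟶ N ⊞ mappingCone (𝟙 M)).f i ≫ a = (biprod.inr : _ ⟶ N ⊞ mappingCone (𝟙 M)).f i ≫ b →
          a = b := by
        intro A a b ha hb
        rw [← Category.id_comp a, ← Category.id_comp b, ← hid]
        simp only [Preadditive.add_comp, Category.assoc, ha, hb]
      apply h1
      · simp [q, τ, t, r, F, ← HomologicalComplex.comp_f_assoc, ← HomologicalComplex.comp_f]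
      · rw [mappingCone.ext_from_iff (𝟙 M) (i + 1) i rfl]
        constructor
        · simp [q, τ, t, r, F, ← HomologicalComplex.comp_f_assoc]
        · simp [q, τ, t, r, F, biprod.lift_eq, ← HomologicalComplex.comp_f_assoc]
    refine ⟨⟨(biprod.fst : M ⊞ mappingCone f ⟶ _).f i ≫ F.f i +
      (biprod.snd : M ⊞ mappingCone f ⟶ _).f i ≫ (t - t ≫ s.f i ≫ F.f i), ?_, ?_⟩⟩
    · have hrF : r ≫ F.f i ≫ s.f i ≫ F.f i = r ≫ F.f i := by
        rw [← HomologicalComplex.comp_f_assoc, hFs, HomologicalComplex.id_f, Category.id_comp]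
      simp only [Preadditive.comp_add, Preadditive.comp_sub, ← HomologicalComplex.comp_f_assoc,
        biprod.lift_fst, biprod.lift_snd]
      rw [eq_sub_of_add_eq hqt, ← Category.assoc (q.f i) t, eq_sub_of_add_eq hqt]
      simp [hrF]
    · have hid' : (biprod.fst : M ⊞ mappingCone f ⟶ _).f i ≫
          (biprod.inl : _ ⟶ M ⊞ mappingCone f).f i +
          (biprod.snd : M ⊞ mappingCone f ⟶ _).f i ≫
          (biprod.inr : _ ⟶ M ⊞ mappingCone f).f i = 𝟙 _ := by
        rw [← HomologicalComplex.comp_f, ← HomologicalComplex.comp_f, ← HomologicalComplex.add_f_apply,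
          biprod.total, HomologicalComplex.id_f]
      have hL : (biprod.lift s q).f i = s.f i ≫ (biprod.inl : _ ⟶ M ⊞ mappingCone f).f i +
          q.f i ≫ (biprod.inr : _ ⟶ M ⊞ mappingCone f).f i := by
        rw [← HomologicalComplex.comp_f, ← HomologicalComplex.comp_f, ← HomologicalComplex.add_f_apply,
          biprod.lift_eq]
      have hFs' : F.f i ≫ s.f i = 𝟙 _ := by rw [← HomologicalComplex.comp_f, hFs, HomologicalComplex.id_f]
      have hFq' : F.f i ≫ q.f i = 0 := by rw [← HomologicalComplex.comp_f, hFq, HomologicalComplex.zero_f]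
      rw [hL, ← hid']
      simp [reassoc_of% hFs', reassoc_of% hFq', reassoc_of% htq]
  exact ⟨(@asIso _ _ _ _ (biprod.lift s q) (HomologicalComplex.Hom.isIso_of_components _)).symm⟩

end Groth.Agent.TrivSum
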