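import Groth.Prelude.Def_DRing2
import Groth.Agent.DRingKP.BC
import Groth.Agent.DerPlus.Acyclic
import Groth.Agent.PerfLocal.Perfect
import Groth.Agent.TrivSum.Cone
import Mathlib

/-!
Contractible complexes of finite projective modules become trivial complexes near a prime.
-/

set_option autoImplicit false
set_option linter.style.haveILetI false

namespace Groth.Agent.TrivSum

open CategoryTheory Limits CochainComplex TensorProduct

universe u

attribute [local instance] HasDerivedCategory.standard

variable {R : Type u} [CommRing R]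

/-- A finite projective module is free on `D(g)` for some `g ∉ p` and on all smaller ones. -/
theorem exists_free_away (p : Ideal R) [p.IsPrime] (Q : Type u) [AddCommGroup Q] [Module R Q]
    [Module.Finite R Q] [Module.Projective R Q] :
    ∃ f : R, f ∉ p ∧ ∀ g : R, f ∣ g → Module.Free (Localization.Away g) (Localization.Away g ⊗[R] Q) := by
  haveI := Module.finitePresentation_of_projective R Q
  haveI : Module.Free (Localization.AtPrime p) (LocalizedModule p.primeCompl Q) :=
    Module.free_of_flat_of_isLocalRing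
  obtain ⟨f, hf, hfree, -⟩ := Module.FinitePresentation.exists_free_localizedModule_powers
    p.primeCompl (LocalizedModule.mkLinearMap p.primeCompl Q) (Localization.AtPrime p)
  refine ⟨f, hf, fun g hg => ?_⟩
  haveI := hfree
  haveI : Module.Free (Localization.Away f) (Localization.Away f ⊗[R] Q) :=
    Module.Free.of_equiv ((IsLocalizedModule.isBaseChange (Submonoid.powers f) (Localization.Away f)
      (LocalizedModule.mkLinearMap (Submonoid.powers f) Q)).equiv).symm
  obtain ⟨c, rfl⟩ := hg
  letI : Algebra (Localization.Away f) (Localization.Away (f * c)) :=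
    (IsLocalization.Away.lift (S := Localization.Away f) f (g := algebraMap R (Localization.Away (f * c)))
      (isUnit_of_dvd_unit ⟨algebraMap R _ c, map_mul _ _ _⟩ (IsLocalization.Away.algebraMap_isUnit (f * c)))).toAlgebra
  haveI : IsScalarTower R (Localization.Away f) (Localization.Away (f * c)) :=
    IsScalarTower.of_algebraMap_eq fun x => (IsLocalization.Away.lift_eq (S := Localization.Away f) f _ x).symm
  exact Module.Free.of_equiv (AlgebraTensorModule.cancelBaseChange R (Localization.Away f)
    (Localization.Away (f * c)) (Localization.Away (f * c)) Q)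

theorem free_extend' {S : Type u} [CommRing S] (φ : R →+* S) [alg : Algebra R S] (hφ : φ = algebraMap R S)
    {Q : ModuleCat.{u} R} (h : Module.Free S (S ⊗[R] Q)) :
    Module.Free S ((ModuleCat.extendScalars.{u, u, u} φ).obj Q) := by
  obtain rfl : alg = φ.toAlgebra := Algebra.algebra_ext _ _ fun r => (congrArg (fun z : R →+* S => z r) hφ).symm
  exact h

theorem free_extend {Q : ModuleCat.{u} R} (g : R)
    (h : Module.Free (Localization.Away g) (Localization.Away g ⊗[R] Q)) :
    Module.Free (Localization.Away g)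
      ((ModuleCat.extendScalars.{u, u, u} (algebraMap R (Localization.Away g))).obj Q) :=
  free_extend' _ rfl h

/-- The boundaries of a contractible complex are direct summands. -/
theorem exists_retraction {P : DRing.Cx R} (h : Homotopy (𝟙 P) 0) (i : ℤ) :
    ∃ (π : P.X (i + 1) ⟶ ModuleCat.of R ↥(LinearMap.range (P.d i (i + 1)).hom)),
      (ModuleCat.ofHom (LinearMap.range (P.d i (i + 1)).hom).subtype) ≫ π = 𝟙 _ := by
  have hd : P.d i (i + 1) ≫ h.hom (i + 1) i ≫ P.d i (i + 1) = P.d i (i + 1) := by
    have h1 : (𝟙 P : P ⟶ P).f i = P.d i (i + 1) ≫ h.hom (i + 1) i + h.hom i (i - 1) ≫ P.d (i - 1) i := by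
      rw [h.comm i, dNext_eq _ (show (ComplexShape.up ℤ).Rel i (i + 1) by simp),
        prevD_eq _ (show (ComplexShape.up ℤ).Rel (i - 1) i by simp)]
      simp
    have h2 := congrArg (fun z => z ≫ P.d i (i + 1)) h1
    simpa using h2.symm
  refine ⟨ModuleCat.ofHom ((h.hom (i + 1) i ≫ P.d i (i + 1)).hom.codRestrict _ fun y => ⟨_, rfl⟩), ?_⟩
  ext ⟨_, x, rfl⟩
  exact congrArg (fun z : P.X i ⟶ P.X (i + 1) => z.hom x) hd

theorem finite_projective_range {P : DRing.Cx R} (hP : DRing.TermwiseFiniteProjective P)
    (h : Homotopy (𝟙 P) 0) (i : ℤ) :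
    Module.Finite R ↥(LinearMap.range (P.d i (i + 1)).hom) ∧
      Module.Projective R ↥(LinearMap.range (P.d i (i + 1)).hom) := by
  haveI := (hP i).1
  haveI := (hP (i + 1)).2
  obtain ⟨π, hπ⟩ := exists_retraction h i
  exact ⟨inferInstance, Module.Projective.of_split _ π.hom (ModuleCat.hom_ext_iff.1 hπ)⟩

theorem free_range_of_eq {S : Type u} [CommRing S] {X B Y : Type u} [AddCommGroup X] [Module S X]
    [AddCommGroup B] [Module S B] [Module.Free S B] [AddCommGroup Y] [Module S Y] {d : X →ₗ[S] Y}
    {ε : X →ₗ[S] B} {ι : B →ₗ[S] Y} (hd : d = ι.comp ε) (hε : Function.Surjective ε)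
    (hι : Function.Injective ι) : Module.Free S ↥(LinearMap.range d) := by
  subst hd
  rw [LinearMap.range_comp_of_range_eq_top _ (LinearMap.range_eq_top.2 hε)]
  exact Module.Free.of_equiv (LinearEquiv.ofInjective _ hι)

theorem free_range_of_subsingleton {S : Type u} [CommRing S] {X Y : Type u} [AddCommGroup X] [Module S X]
    [AddCommGroup Y] [Module S Y] (d : X →ₗ[S] Y) (h : Subsingleton X) :
    Module.Free S ↥(LinearMap.range d) := by
  haveI : Subsingleton ↥(LinearMap.range d) :=
    ⟨by rintro ⟨_, x, rfl⟩ ⟨_, y, rfl⟩; rw [Subsingleton.elim x y]⟩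
  exact Module.Free.of_subsingleton _ _

/-- A contractible bounded complex of finite projectives becomes trivial near `p`. -/
theorem exists_trivial (p : Ideal R) [p.IsPrime] {P : DRing.Cx R} {a b : ℤ}
    (hv : DRing.VanishesOutside P a b) (hP : DRing.TermwiseFiniteProjective P)
    (h : Homotopy (𝟙 P) 0) :
    ∃ f : R, f ∉ p ∧ ∀ g : R, f ∣ g →
      (∃ a' b' : ℤ, DRing.VanishesOutside (((ModuleCat.extendScalars.{u, u, u} (algebraMap R
        (Localization.Away g))).mapHomologicalComplex (ComplexShape.up ℤ)).obj P) a' b') ∧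
      DRing.TermwiseFiniteFree (((ModuleCat.extendScalars.{u, u, u} (algebraMap R
        (Localization.Away g))).mapHomologicalComplex (ComplexShape.up ℤ)).obj P) ∧
      (∀ i : ℤ, Module.Free (Localization.Away g) (LinearMap.range ((((ModuleCat.extendScalars.{u, u, u}
        (algebraMap R (Localization.Away g))).mapHomologicalComplex (ComplexShape.up ℤ)).obj P).d i (i + 1)).hom)) ∧
      Nonempty (Homotopy (𝟙 (((ModuleCat.extendScalars.{u, u, u} (algebraMap R
        (Localization.Away g))).mapHomologicalComplex (ComplexShape.up ℤ)).obj P)) 0) := by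
  classical
  choose f1 hf1 hF1 using fun i : ℤ => (haveI := (hP i).1; haveI := (hP i).2; exists_free_away p (P.X i))
  choose f2 hf2 hF2 using fun i : ℤ => (haveI := (finite_projective_range hP h i).1
    haveI := (finite_projective_range hP h i).2
    exists_free_away p ↥(LinearMap.range (P.d i (i + 1)).hom))
  refine ⟨∏ i ∈ Finset.Icc (a - 1) b, f1 i * f2 i, ?_, fun g hg => ?_⟩
  · intro hmem
    obtain ⟨i, -, hi⟩ := (Ideal.IsPrime.prod_mem_iff (hp := ‹p.IsPrime›)).1 hmem
    exact (Ideal.IsPrime.mem_or_mem ‹p.IsPrime› hi).elim (hf1 i) (hf2 i)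
  set Φ := ModuleCat.extendScalars.{u, u, u} (algebraMap R (Localization.Away g))
  have hz : ∀ i, i ∉ Finset.Icc (a - 1) b → IsZero (P.X i) := fun i hi => hv i (by
    simp only [Finset.mem_Icc, not_and_or, not_le] at hi; omega)
  have hfree : ∀ i, Module.Free (Localization.Away g) (Φ.obj (P.X i)) := fun i => by
    by_cases hi : i ∈ Finset.Icc (a - 1) b
    · exact free_extend g (hF1 i g ((Dvd.intro (f2 i) rfl).trans ((Finset.dvd_prod_of_mem _ hi).trans hg)))
    · haveI := ModuleCat.subsingleton_of_isZero (Φ.map_isZero (hz i hi))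
      exact Module.Free.of_subsingleton _ _
  refine ⟨⟨a, b, fun i hi => Φ.map_isZero (hv i hi)⟩,
    fun i => ⟨(DRingKP.extendScalars_finiteProjective _ (hP i)).1, hfree i⟩, fun i => ?_,
    ⟨((Homotopy.ofEq ((Φ.mapHomologicalComplex _).map_id P).symm).trans (Φ.mapHomotopy h)).trans
      (Homotopy.ofEq (Functor.map_zero _ _ _))⟩⟩
  show Module.Free _ (LinearMap.range (Φ.map (P.d i (i + 1))).hom)
  by_cases hi : i ∈ Finset.Icc (a - 1) b
  · let B := ModuleCat.of R ↥(LinearMap.range (P.d i (i + 1)).hom)
    let ε : P.X i ⟶ B := ModuleCat.ofHom (P.d i (i + 1)).hom.rangeRestrict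
    let ι : B ⟶ P.X (i + 1) := ModuleCat.ofHom (LinearMap.range (P.d i (i + 1)).hom).subtype
    obtain ⟨π, hπ⟩ := exists_retraction h i
    haveI : Module.Free (Localization.Away g) (Φ.obj B) :=
      free_extend g (hF2 i g ((Dvd.intro_left (f1 i) rfl).trans ((Finset.dvd_prod_of_mem _ hi).trans hg)))
    have hε : Function.Surjective (Φ.map ε).hom := by
      haveI : Epi ε := (ModuleCat.epi_iff_surjective _).2 (LinearMap.surjective_rangeRestrict _)
      haveI : Φ.PreservesEpimorphisms :=
        Functor.preservesEpimorphisms_of_isLeftAdjoint Φ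
      exact (ModuleCat.epi_iff_surjective _).1 inferInstance
    have hι : Function.Injective (Φ.map ι).hom := by
      have h1 : Φ.map ι ≫ Φ.map π = 𝟙 _ := by rw [← Φ.map_comp, hπ, Φ.map_id]
      exact Function.LeftInverse.injective (g := (Φ.map π).hom) fun x => congrArg (fun z => z.hom x) h1
    have hd : (Φ.map (P.d i (i + 1))).hom = (Φ.map ι).hom.comp (Φ.map ε).hom := by
      rw [show P.d i (i + 1) = ε ≫ ι from rfl, Φ.map_comp, ModuleCat.hom_comp]
    refine free_range_of_eq hd ?_ hι
    exact hε
  · refine free_range_of_subsingleton _ ?_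
    exact ModuleCat.subsingleton_of_isZero (Φ.map_isZero (hz i hi))

theorem finiteProjective_cone {M N : DRing.Cx R} (φ : M ⟶ N) (hM : DRing.TermwiseFiniteProjective M)
    (hN : DRing.TermwiseFiniteProjective N) : DRing.TermwiseFiniteProjective (mappingCone φ) := fun i => by
  haveI := (hM (i + 1)).1
  haveI := (hM (i + 1)).2
  haveI := (hN i).1
  haveI := (hN i).2
  let e := (HomologicalComplex.homotopyCofiber.XIsoBiprod φ i (i + 1) rfl ≪≫
    ModuleCat.biprodIsoProd (M.X (i + 1)) (N.X i)).toLinearEquiv.symm
  exact ⟨Module.Finite.equiv e, Module.Projective.of_equiv e⟩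

theorem vanishes_cone {M N : DRing.Cx R} {a b c d : ℤ} (φ : M ⟶ N) (hM : DRing.VanishesOutside M a b)
    (hN : DRing.VanishesOutside N c d) :
    DRing.VanishesOutside (mappingCone φ) (min (a - 1) c) (max b d) := fun i hi => by
  refine IsZero.of_iso ?_ (HomologicalComplex.homotopyCofiber.XIsoBiprod φ i (i + 1) rfl)
  exact biprod_isZero_iff _ _ |>.2 ⟨hM (i + 1) (by omega), hN i (by omega)⟩

end Groth.Agent.TrivSum
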